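import Cfsg.Agent.Lib.Classical.PSpFourThree
import Cfsg.Agent.Lib.Geometry.OrthMatrix

/-!
Normal subgroups of the orthogonal group of the elliptic six-dimensional form over two elements, and
matrices and vectors given by natural numbers.
-/

set_option autoImplicit false
set_option maxRecDepth 100000

namespace CfsgLib.Spor.Fi22.TwoCent

open QuadraticMap CfsgLib.Geometry CfsgLib.Classical.ESix

/-- position of a coordinate -/
def bitPos : I2 → ℕ
  | .inl (.inl i) => i.val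
  | .inl (.inr i) => 2 + i.val
  | .inr i => 4 + i.val

/-- a binary digit as an element of the field -/
def bitZ (k n : ℕ) : ZMod 2 := Bool.rec 0 1 (k.testBit n)

/-- the vector of a number -/
def vecN (k : ℕ) : V2 := fun i => bitZ k (bitPos i)

/-- apply a matrix given by the images of the unit vectors to a number -/
def mapN (m : List ℕ) (k : ℕ) : ℕ :=
  (List.range 6).foldr (fun i r => Bool.rec r (Nat.xor (m.getD i 0) r) (k.testBit i)) 0

/-- the linear map given by the images of the unit vectors -/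
def mapM (m : List ℕ) : V2 →ₗ[ZMod 2] V2 :=
  Matrix.mulVecLin (Matrix.of fun i j => bitZ (m.getD (bitPos j) 0) (bitPos i))

theorem vecN_surj : ∀ v : V2, ∃ k : Fin 64, vecN k = v := by decide +kernel

/-- the polar form -/
def bil (u v : V2) : ZMod 2 := f2 (u + v) - f2 u - f2 v

theorem polar_Q2 (u v : V2) : polar Q2 u v = bil u v := by
  simp only [QuadraticMap.polar, Q2_apply, bil]

theorem rf2_eq (a v : V2) : rf2 a v = v - bil v a • a := rfl

/-- the entries are exactly the non-singular vectors -/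
theorem exists_ent {v : V2} (h : f2 v = 1) : ∃ i, (ent i).1 = v :=
  table_cover v (by rw [h]; exact one_ne_zero)

/-- the index of the base vector -/
def i0 : Fin 36 := ⟨35, by norm_num⟩

theorem ent_i0 : (ent i0).1 = vecN 5 := by decide +kernel

theorem bil_self_ent : ∀ i : Fin 36, bil (ent i).1 (ent i).1 = 0 := by decide +kernel

theorem perp_partner : ∀ i j : Fin 36, i ≠ j → bil (ent i).1 (ent j).1 = 0 →
    ∃ k : Fin 36, bil (ent k).1 (rf2 (ent i).1 (rf2 (ent j).1 (ent k).1)) = 1 := by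
  decide +kernel

theorem braid_vec : ∀ i j : Fin 36, bil (ent i).1 (ent j).1 = 1 →
    rf2 (ent i).1 (ent j).1 = rf2 (ent j).1 (ent i).1 ∧
      rf2 (ent i).1 (rf2 (ent j).1 (ent i).1) = (ent j).1 ∧
      rf2 (ent i).1 (rf2 (ent j).1 (ent j).1) ≠ (ent j).1 := by
  decide +kernel

theorem link : ∀ i : Fin 36, i = i0 ∨ bil (ent i).1 (ent i0).1 = 1 ∨ ∃ k : Fin 36,
    bil (ent i).1 (ent k).1 = 1 ∧ bil (ent k).1 (ent i0).1 = 1 := by
  decide +kernel

theorem map_ent (A : orth Q2) (i : Fin 36) : ∃ j, (ent j).1 = A.1 (ent i).1 := by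
  refine exists_ent ?_
  rw [← Q2_apply, mem_orth.1 A.2, Q2_apply, f2_ent]

theorem bil_map (A : orth Q2) (u v : V2) : bil (A.1 u) (A.1 v) = bil u v := by
  rw [← polar_Q2, ← polar_Q2, orth_polar A.2]

theorem s2_conj (A : orth Q2) {i j : Fin 36} (h : A.1 (ent i).1 = (ent j).1) : A * s2 i * A⁻¹ = s2 j := by
  refine Subtype.ext ?_
  show A.1 * refl Q2 (ent i).1 (ne_two (f2_ent i)) * A.1⁻¹ = _
  rw [refl_conj Q2 A.2]
  refine LinearEquiv.ext fun v => ?_
  show _ = refl Q2 (ent j).1 (ne_two (f2_ent j)) v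
  simp only [refl_apply, h]

theorem s2_inv (i : Fin 36) : (s2 i)⁻¹ = s2 i :=
  inv_eq_of_mul_eq_one_right (Subtype.ext (refl_mul_self _ _ (ne_two (f2_ent i))))

theorem s2_mul_self (i : Fin 36) : s2 i * s2 i = 1 := Subtype.ext (refl_mul_self _ _ (ne_two (f2_ent i)))

/-- An element fixing all non-singular vectors is trivial. -/
theorem eq_one_of_fix {A : orth Q2} (h : ∀ i, A.1 (ent i).1 = (ent i).1) : A = 1 := by
  refine Subtype.ext (LinearEquiv.ext fun v => ?_)
  obtain ⟨c, rfl⟩ := table_span v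
  rw [map_sum]
  show _ = ∑ g, c g • (root g).1
  refine Finset.sum_congr rfl fun g _ => ?_
  rw [map_smul]
  exact congrArg _ (h _)

/-- A normal nontrivial subgroup contains a product of two non-commuting reflections. -/
theorem exists_pair_mem (N : Subgroup (orth Q2)) [N.Normal] {A : orth Q2} (hA : A ∈ N) (hA1 : A ≠ 1) :
    ∃ i j : Fin 36, bil (ent i).1 (ent j).1 = 1 ∧ s2 i * s2 j ∈ N := by
  obtain ⟨i, hi⟩ : ∃ i, A.1 (ent i).1 ≠ (ent i).1 := by
    by_contra h
    push Not at h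
    exact hA1 (eq_one_of_fix h)
  obtain ⟨j, hj⟩ := map_ent A i
  have hij : i ≠ j := fun e => hi (by rw [← hj, e])
  have hm : s2 i * s2 j ∈ N := by
    rw [← s2_conj A hj.symm, show s2 i * (A * s2 i * A⁻¹) = (s2 i * A * (s2 i)⁻¹) * A⁻¹ by
      rw [s2_inv]; group]
    exact N.mul_mem (Subgroup.Normal.conj_mem inferInstance A hA _) (N.inv_mem hA)
  rcases (by decide : ∀ z : ZMod 2, z = 0 ∨ z = 1) (bil (ent i).1 (ent j).1) with hb | hb
  · obtain ⟨k, hk⟩ := perp_partner i j hij hb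
    obtain ⟨l, hl⟩ := map_ent (s2 i * s2 j) k
    have e : (s2 i * s2 j).1 (ent k).1 = rf2 (ent i).1 (rf2 (ent j).1 (ent k).1) := by
      rw [← s2_apply, ← s2_apply]; rfl
    refine ⟨k, l, by rw [hl, e, hk], ?_⟩
    rw [← s2_conj (s2 i * s2 j) hl.symm,
      show s2 k * ((s2 i * s2 j) * s2 k * (s2 i * s2 j)⁻¹) =
        (s2 k * (s2 i * s2 j) * (s2 k)⁻¹) * (s2 i * s2 j)⁻¹ by rw [s2_inv]; group]
    exact N.mul_mem (Subgroup.Normal.conj_mem inferInstance _ hm _) (N.inv_mem hm)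
  · exact ⟨i, j, hb, hm⟩

theorem pair_apply {i j : Fin 36} (h : bil (ent i).1 (ent j).1 = 1) :
    (s2 i * s2 j).1 (ent i).1 = (ent j).1 := by
  show (s2 i).1 ((s2 j).1 (ent i).1) = _
  rw [s2_apply, s2_apply]
  exact (braid_vec i j h).2.1

theorem exists_to_i0 (i : Fin 36) : ∃ g : orth Q2, g.1 (ent i).1 = (ent i0).1 := by
  rcases link i with rfl | h | ⟨k, h1, h2⟩
  · exact ⟨1, rfl⟩
  · exact ⟨_, pair_apply h⟩
  · refine ⟨(s2 k * s2 i0) * (s2 i * s2 k), ?_⟩
    show (s2 k * s2 i0).1 ((s2 i * s2 k).1 (ent i).1) = _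
    rw [pair_apply h1, pair_apply h2]

/-- A normal nontrivial subgroup moves the base vector to a non-perpendicular one. -/
theorem exists_move (N : Subgroup (orth Q2)) [N.Normal] {A : orth Q2} (hA : A ∈ N) (hA1 : A ≠ 1) :
    ∃ n ∈ N, bil (ent i0).1 (n.1 (ent i0).1) = 1 := by
  obtain ⟨i, j, h, hm⟩ := exists_pair_mem N hA hA1
  obtain ⟨g, hg⟩ := exists_to_i0 i
  refine ⟨g * (s2 i * s2 j) * g⁻¹, Subgroup.Normal.conj_mem inferInstance _ hm _, ?_⟩
  show bil (ent i0).1 (g.1 ((s2 i * s2 j).1 ((g⁻¹).1 (ent i0).1))) = 1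
  rw [show (g⁻¹).1 (ent i0).1 = (ent i).1 by
    rw [← hg]; exact g.1.symm_apply_apply _, pair_apply h, ← hg, bil_map, h]

/-- There is no nontrivial normal 2-subgroup. -/
theorem normal_two_trivial (N : Subgroup (orth Q2)) [N.Normal] (h2 : IsPGroup 2 N) : N = ⊥ := by
  rw [Subgroup.eq_bot_iff_forall]
  intro A hA
  by_contra hA1
  obtain ⟨i, j, h, hm⟩ := exists_pair_mem N hA hA1
  have hbr : s2 i * s2 j * s2 i = s2 j * s2 i * s2 j := by
    obtain ⟨k, hk⟩ := map_ent (s2 i) j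
    obtain ⟨l, hl⟩ := map_ent (s2 j) i
    rw [s2_apply] at hk hl
    have hkl : k = l := table_inj k l (by rw [hk, hl, (braid_vec i j h).1])
    have e1 := s2_conj (s2 i) (i := j) (j := k) (by rw [s2_apply, hk])
    have e2 := s2_conj (s2 j) (i := i) (j := l) (by rw [s2_apply, hl])
    rw [s2_inv] at e1 e2
    rw [e1, e2, hkl]
  have h3 : (s2 i * s2 j) ^ 3 = 1 := by
    calc (s2 i * s2 j) ^ 3 = (s2 i * s2 j * s2 i) * (s2 j * s2 i * s2 j) := by
          rw [pow_succ, pow_succ, pow_one]; group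
      _ = (s2 i * s2 j * s2 i) * (s2 i * s2 j * s2 i) := by rw [hbr]
      _ = s2 i * s2 j * (s2 i * s2 i) * s2 j * s2 i := by group
      _ = 1 := by rw [s2_mul_self, mul_one, mul_assoc (s2 i) (s2 j), s2_mul_self, mul_one, s2_mul_self]
  have hne : s2 i * s2 j ≠ 1 := by
    intro e
    have := congrArg (fun g : orth Q2 => g.1 (ent j).1) e
    exact (braid_vec i j h).2.2 (by rw [← s2_apply, ← s2_apply]; exact this)
  obtain ⟨k, hk⟩ := h2 ⟨_, hm⟩
  have hk' : (s2 i * s2 j) ^ 2 ^ k = 1 := congrArg Subtype.val hk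
  have hcop : Nat.gcd 3 (2 ^ k) = 1 := (Nat.Coprime.pow_right k (by norm_num : Nat.Coprime 3 2))
  exact hne (pow_one (s2 i * s2 j) ▸ hcop ▸ pow_gcd_eq_one.2 ⟨h3, hk'⟩)

end CfsgLib.Spor.Fi22.TwoCent
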