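import Cfsg.Agent.Lib.Spor.Fi22.TwoCent.Forms
import Cfsg.Agent.Lib.Spor.Fi22.TwoCent.Points

/-!
The action of the centraliser of the product of two commuting transpositions on the labels of the
points of the long orbit, and the two-element kernel data.
-/

set_option autoImplicit false
set_option maxRecDepth 100000

namespace CfsgLib.Spor.Fi22.TwoCent

open CfsgLib.PresCert Cfsg.Spor CfsgLib.Spor.Fi22 CfsgLib.Spor.Fi22.Transp
open CfsgLib.Classical.ESix CfsgLib.Geometry

/-- the label of a point as a number -/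
noncomputable def labN (i : ℕ) : ℕ :=
  Nat.land (Nat.shiftRight labBig (Nat.mul i (nat_lit 6))) (nat_lit 63)

theorem labN_lt (i : ℕ) : labN i < 64 := Nat.lt_succ_of_le Nat.and_le_right

/-- the label of a point -/
noncomputable def lab (p : Fin Perm.data.n) : V2 := vecN (labN p)

/-- the word acts on the labels by the matrix and commutes with the product -/
noncomputable def okGen (w : List Fi22.Gen) (m : List ℕ) : Bool :=
  okBase (w ++ [.a, .g]) ([.a, .g] ++ w) &&
    allBelow 3510 fun i => Nat.beq (labN (appW w i)) (mapN m (labN i))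

/-- the word fixes the labels and commutes with both transpositions -/
noncomputable def okKer (w : List Fi22.Gen) : Bool :=
  okBase (w ++ [.a]) ([.a] ++ w) && okBase (w ++ [.g]) ([.g] ++ w) &&
    allBelow 3510 fun i => Nat.beq (labN (appW w i)) (labN i)

theorem gens_ok0 : okGen (genW.getD 0 []) (genM.getD 0 []) = true := by decide +kernel
theorem gens_ok1 : okGen (genW.getD 1 []) (genM.getD 1 []) = true := by decide +kernel
theorem gens_ok2 : okGen (genW.getD 2 []) (genM.getD 2 []) = true := by decide +kernel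
theorem gens_ok3 : okGen (genW.getD 3 []) (genM.getD 3 []) = true := by decide +kernel
theorem gens_ok4 : okGen (genW.getD 4 []) (genM.getD 4 []) = true := by decide +kernel
theorem gens_ok5 : okGen (genW.getD 5 []) (genM.getD 5 []) = true := by decide +kernel

theorem base_ok0 : okKer (baseW.getD 0 []) = true := by decide +kernel
theorem base_ok1 : okKer (baseW.getD 1 []) = true := by decide +kernel
theorem base_ok2 : okKer (baseW.getD 2 []) = true := by decide +kernel
theorem base_ok3 : okKer (baseW.getD 3 []) = true := by decide +kernel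
theorem base_ok4 : okKer (baseW.getD 4 []) = true := by decide +kernel
theorem base_ok5 : okKer (baseW.getD 5 []) = true := by decide +kernel
theorem base_ok6 : okKer (baseW.getD 6 []) = true := by decide +kernel
theorem base_ok7 : okKer (baseW.getD 7 []) = true := by decide +kernel
theorem ag_ok : okKer [.a] = true ∧ okKer [.g] = true := by decide +kernel

theorem genM_ok : (genM.all fun m => (List.range 64).all fun k => decide (mapM m (mapM m (vecN k)) = vecN k) &&
    decide (f2 (mapM m (vecN k)) = f2 (vecN k)) && decide (vecN (mapN m k) = mapM m (vecN k))) = true := by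
  decide +kernel

theorem genM_spec (k : Fin 6) : (∀ v, mapM (genM.getD k []) (mapM (genM.getD k []) v) = v) ∧
    (∀ v, f2 (mapM (genM.getD k []) v) = f2 v) ∧
      ∀ n < 64, vecN (mapN (genM.getD k []) n) = mapM (genM.getD k []) (vecN n) := by
  have hm : genM.getD k [] ∈ genM := by
    rw [List.getD_eq_getElem?_getD, List.getElem?_eq_getElem (show (k : ℕ) < genM.length from k.2)]
    exact List.getElem_mem _
  have h := List.all_eq_true.1 genM_ok _ hm
  refine ⟨fun v => ?_, fun v => ?_, fun n hn => ?_⟩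
  · obtain ⟨n, rfl⟩ := vecN_surj v
    have := List.all_eq_true.1 h n (List.mem_range.2 n.2)
    simp only [Bool.and_eq_true, decide_eq_true_eq] at this
    exact this.1.1
  · obtain ⟨n, rfl⟩ := vecN_surj v
    have := List.all_eq_true.1 h n (List.mem_range.2 n.2)
    simp only [Bool.and_eq_true, decide_eq_true_eq] at this
    exact this.1.2
  · have := List.all_eq_true.1 h n (List.mem_range.2 hn)
    simp only [Bool.and_eq_true, decide_eq_true_eq] at this
    exact this.2

/-- the image of a generator -/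
noncomputable def genA (k : Fin 6) : orth Q2 :=
  ⟨LinearEquiv.ofInvolutive (mapM (genM.getD k [])) (genM_spec k).1, fun v => by
    rw [Q2_apply, Q2_apply]; exact (genM_spec k).2.1 v⟩

theorem genA_apply (k : Fin 6) (v : V2) : (genA k).1 v = mapM (genM.getD k []) v := rfl

/-- pairs of an element of the centraliser and the linear map by which it moves the labels -/
noncomputable def graph : Subgroup (prodCent × orth Q2) where
  carrier := {x | ∀ p, lab (π (x.1 : Cfsg.Spor.Fi22) p) = x.2.1 (lab p)}
  one_mem' := fun p => by simp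
  mul_mem' := by
    intro x y hx hy p
    show lab (π ((x.1 : Cfsg.Spor.Fi22) * y.1) p) = x.2.1 (y.2.1 (lab p))
    rw [map_mul, Equiv.Perm.mul_apply, hx, hy]
  inv_mem' := by
    intro x hx p
    have h := hx ((π (x.1 : Cfsg.Spor.Fi22))⁻¹ p)
    rw [← Equiv.Perm.mul_apply, mul_inv_cancel, Equiv.Perm.one_apply] at h
    show lab (π ((x.1 : Cfsg.Spor.Fi22)⁻¹) p) = x.2.1.symm (lab p)
    rw [map_inv, h, LinearEquiv.symm_apply_apply]

theorem mem_graph {x : prodCent × orth Q2} : x ∈ graph ↔ ∀ p, lab (π (x.1 : Cfsg.Spor.Fi22) p) = x.2.1 (lab p) :=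
  Iff.rfl

theorem prod_comm_mem {w : List Fi22.Gen} (h : okBase (w ++ [.a, .g]) ([.a, .g] ++ w) = true) :
    val w ∈ prodCent := by
  refine Subgroup.mem_centralizer_singleton_iff.2 ?_
  simpa [val, ga, gg, mul_assoc] using eq_of_okBase h

theorem gen_mem (k : Fin 6) : ∃ h : val (genW.getD k []) ∈ prodCent, ((⟨_, h⟩ : prodCent), genA k) ∈ graph := by
  have h : okGen (genW.getD k []) (genM.getD k []) = true := by
    fin_cases k
    exacts [gens_ok0, gens_ok1, gens_ok2, gens_ok3, gens_ok4, gens_ok5]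
  rw [okGen, Bool.and_eq_true] at h
  refine ⟨prod_comm_mem h.1, mem_graph.2 fun p => ?_⟩
  show lab (π (val (genW.getD k [])) p) = mapM (genM.getD k []) (lab p)
  rw [lab, π_val, Nat.eq_of_beq_eq_true (allBelow_spec h.2 p p.2), (genM_spec k).2.2 _ (labN_lt _), lab]

/-- the elements of the pair centraliser fixing all labels -/
noncomputable def labKer : Subgroup Cfsg.Spor.Fi22 where
  carrier := {x | x ∈ pairCent ∧ ∀ p, lab (π x p) = lab p}
  one_mem' := ⟨one_mem _, fun p => by simp⟩
  mul_mem' := fun {x y} hx hy => ⟨mul_mem hx.1 hy.1, fun p => by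
    rw [map_mul, Equiv.Perm.mul_apply, hx.2, hy.2]⟩
  inv_mem' := fun {x} hx => ⟨inv_mem hx.1, fun p => by
    have h := hx.2 ((π x)⁻¹ p)
    rw [← Equiv.Perm.mul_apply, mul_inv_cancel, Equiv.Perm.one_apply] at h
    rw [map_inv, h]⟩

theorem mem_labKer_of_ok {w : List Fi22.Gen} (h : okKer w = true) : val w ∈ labKer := by
  simp only [okKer, Bool.and_eq_true] at h
  refine ⟨⟨Subgroup.mem_centralizer_singleton_iff.2 ?_, Subgroup.mem_centralizer_singleton_iff.2 ?_⟩, fun p => ?_⟩
  · simpa [val, ga] using eq_of_okBase h.1.1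
  · simpa [val, gg] using eq_of_okBase h.1.2
  · rw [lab, π_val, Nat.eq_of_beq_eq_true (allBelow_spec h.2 p p.2), lab]

theorem pairCent_le : pairCent ≤ prodCent := by
  intro x hx
  rw [pairCent, Subgroup.mem_inf, Subgroup.mem_centralizer_singleton_iff, Subgroup.mem_centralizer_singleton_iff] at hx
  refine Subgroup.mem_centralizer_singleton_iff.2 ?_
  rw [← mul_assoc, hx.1, mul_assoc, hx.2, mul_assoc]

theorem orb_ok : ((List.range 36).all fun j => Nat.beq j 0 ||
    (Nat.blt (orbPar.getD j (0, 0)).1 j && Nat.blt (orbPar.getD j (0, 0)).2 6 &&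
      Nat.beq (mapN (genM.getD (orbPar.getD j (0, 0)).2 []) (orbVecs.getD (orbPar.getD j (0, 0)).1 0)) (orbVecs.getD j 0)) ) = true ∧
    (orbVecs.all fun k => Nat.blt k 64) = true ∧ orbVecs.getD 0 0 = 5 := by
  decide +kernel

theorem orb_cover : ∀ i : Fin 36, ∃ j : Fin 36, vecN (orbVecs.getD j 0) = (ent i).1 := by decide +kernel

theorem transv : ∀ n : Fin 64, mapM (genM.getD 5 []) (vecN n) = rf2 (ent i0).1 (vecN n) := by decide +kernel

theorem snd_surj : graph.map (MonoidHom.snd _ _) = ⊤ := by
  set R := graph.map (MonoidHom.snd _ _) with hR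
  have hg : ∀ k, genA k ∈ R := fun k => ⟨_, (gen_mem k).2, rfl⟩
  have hs : s2 i0 ∈ R := by
    have e : s2 i0 = genA 5 := Subtype.ext (LinearEquiv.ext fun v => by
      obtain ⟨n, rfl⟩ := vecN_surj v
      rw [s2_apply, genA_apply]
      exact (transv n).symm)
    rw [e]; exact hg 5
  have horb : ∀ j < 36, ∃ g ∈ R, g.1 (ent i0).1 = vecN (orbVecs.getD j 0) := by
    obtain ⟨h1, h2, h3⟩ := orb_ok
    intro j
    induction j using Nat.strong_induction_on with
    | _ j ih =>
      intro hj
      have h := List.all_eq_true.1 h1 j (List.mem_range.2 hj)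
      simp only [Bool.or_eq_true, Bool.and_eq_true, Nat.beq_eq, Nat.blt_eq] at h
      rcases h with rfl | ⟨⟨hlt, hk⟩, he⟩
      · exact ⟨1, one_mem _, by rw [h3, ← ent_i0]; rfl⟩
      · obtain ⟨g, hgR, hge⟩ := ih _ hlt (hlt.trans hj)
        refine ⟨genA ⟨_, hk⟩ * g, mul_mem (hg _) hgR, ?_⟩
        show (genA ⟨_, hk⟩).1 (g.1 (ent i0).1) = _
        have hlen : (orbPar.getD j (0, 0)).1 < orbVecs.length := (hlt.trans hj).trans_le (le_refl _)
        rw [hge, genA_apply, ← (genM_spec ⟨_, hk⟩).2.2 _ ?_, he]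
        rw [List.getD_eq_getElem?_getD, List.getElem?_eq_getElem hlen]
        exact Nat.le_of_ble_eq_true (List.all_eq_true.1 h2 _ (List.getElem_mem hlen))
  have hall : ∀ i, s2 i ∈ R := by
    intro i
    obtain ⟨j, hj⟩ := orb_cover i
    obtain ⟨g, hgR, hge⟩ := horb j j.2
    rw [← s2_conj g (i := i0) (j := i) (hge.trans hj)]
    exact mul_mem (mul_mem hgR hs) (inv_mem hgR)
  rw [eq_top_iff]
  intro A _
  have hA : A.1 ∈ reflGroup Q2 := by
    rw [reflGroup_eq_orth nondeg_Q2 (Or.inl (by rw [finrank_V2]; norm_num))]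
    exact A.2
  have hle : reflGroup Q2 ≤ R.map (orth Q2).subtype := by
    rw [reflGroup, Subgroup.closure_le]
    rintro _ ⟨a, ha, rfl⟩
    obtain ⟨i, rfl⟩ := table_cover a (by rwa [Q2_apply] at ha)
    exact ⟨s2 i, hall i, rfl⟩
  obtain ⟨B, hB, hBA⟩ := hle hA
  exact Subtype.ext hBA ▸ hB

theorem gen_act (k : Fin 6) (p : Fin Perm.data.n) :
    lab (π (val (genW.getD k [])) p) = (genA k).1 (lab p) :=
  (gen_mem k).elim fun _ hm => mem_graph.1 hm p

theorem lab_attained : ∀ i : Fin 36, ∃ p : Fin Perm.data.n, lab p = (ent i).1 := by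
  intro i
  obtain ⟨j, hj⟩ := orb_cover i
  suffices h : ∀ j < 36, ∃ p : Fin Perm.data.n, lab p = vecN (orbVecs.getD j 0) by
    obtain ⟨p, hp⟩ := h j j.2
    exact ⟨p, hp.trans hj⟩
  intro j hj
  obtain ⟨h1, h2, h3⟩ := orb_ok
  induction j using Nat.strong_induction_on with
  | _ j ih =>
    have h := List.all_eq_true.1 h1 j (List.mem_range.2 hj)
    simp only [Bool.or_eq_true, Bool.and_eq_true, Nat.beq_eq, Nat.blt_eq] at h
    rcases h with rfl | ⟨⟨hlt, hk⟩, he⟩
    · refine ⟨⟨fixPt, (by decide +kernel : fixPt < Perm.data.n)⟩, ?_⟩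
      rw [h3, lab]
      exact congrArg vecN (by decide +kernel : labN fixPt = 5)
    · obtain ⟨p, hp⟩ := ih _ hlt (hlt.trans hj)
      refine ⟨π (val (genW.getD (orbPar.getD j (0, 0)).2 [])) p, ?_⟩
      refine (gen_act ⟨_, hk⟩ p).trans ?_
      have hlen : (orbPar.getD j (0, 0)).1 < orbVecs.length := (hlt.trans hj).trans_le (le_refl _)
      show (genA ⟨_, hk⟩).1 (lab p) = _
      rw [hp, genA_apply, ← (genM_spec ⟨_, hk⟩).2.2 _ ?_, he]
      rw [List.getD_eq_getElem?_getD, List.getElem?_eq_getElem hlen]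
      exact Nat.le_of_ble_eq_true (List.all_eq_true.1 h2 _ (List.getElem_mem hlen))

theorem graph_unique {x : prodCent} {A B : orth Q2} (hA : (x, A) ∈ graph) (hB : (x, B) ∈ graph) : A = B := by
  have h : (A⁻¹ * B) = 1 := eq_one_of_fix fun i => by
    obtain ⟨p, hp⟩ := lab_attained i
    show A.1.symm (B.1 (ent i).1) = _
    rw [← hp, ← mem_graph.1 hB p, mem_graph.1 hA p, LinearEquiv.symm_apply_apply]
  exact inv_mul_eq_one.1 h

theorem fix_ok : allBelow 3510 (fun i => !(Nat.beq (appW fixW i) i) || Nat.beq (labN i) 0 || fixMask.testBit (labN i)) = true ∧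
    appW fixW fixPt = fixPt ∧ fixPt < 3510 ∧ labN fixPt = 5 := by
  decide +kernel

theorem mask_perp : ∀ n : Fin 64, fixMask.testBit n = true → bil (vecN 5) (vecN n) = 0 := by decide +kernel

end CfsgLib.Spor.Fi22.TwoCent
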