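import Cfsg.Agent.Lib.ThCent.Extra
import Cfsg.Agent.Lib.Spor.Fi22.TwoCent.Action

/-!
The normal 2-subgroup of the centraliser of the product of two commuting transpositions: a direct
product of a group of order two and an extraspecial group of order 512.
-/

set_option autoImplicit false
set_option maxRecDepth 100000

namespace CfsgLib.Spor.Fi22.TwoCent

open CfsgLib.PresCert Cfsg.Spor CfsgLib.Spor.Fi22 CfsgLib.Spor.Fi22.Transp

/-- A subgroup enlarged by an element normalising it with square inside it at most doubles. -/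
theorem card_insert_le {X : Type*} [Group X] [Finite X] (S : Subgroup X) (q : X)
    (hn : ∀ s ∈ S, q * s * q⁻¹ ∈ S) (hq : q * q ∈ S) :
    Nat.card (Subgroup.closure (insert q (S : Set X))) ≤ 2 * Nat.card S := by
  classical
  have hn' : ∀ s ∈ S, q⁻¹ * s * q ∈ S := by
    intro s hs
    have h := hn _ (S.mul_mem (S.mul_mem (S.inv_mem hq) hs) hq)
    convert h using 1
    group
  let T : Subgroup X :=
    { carrier := {x | x ∈ S ∨ x * q⁻¹ ∈ S}
      one_mem' := Or.inl (one_mem _)
      mul_mem' := fun {x y} hx hy => by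
        rcases hx with hx | hx <;> rcases hy with hy | hy
        · exact Or.inl (S.mul_mem hx hy)
        · exact Or.inr (by rw [mul_assoc]; exact S.mul_mem hx hy)
        · refine Or.inr ?_
          rw [show x * y * q⁻¹ = x * q⁻¹ * (q * y * q⁻¹) by group]
          exact S.mul_mem hx (hn _ hy)
        · refine Or.inl ?_
          rw [show x * y = x * q⁻¹ * (q * (y * q⁻¹) * q⁻¹) * (q * q) by group]
          exact S.mul_mem (S.mul_mem hx (hn _ hy)) hq
      inv_mem' := fun {x} hx => by
        rcases hx with hx | hx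
        · exact Or.inl (S.inv_mem hx)
        · refine Or.inr ?_
          rw [show x⁻¹ * q⁻¹ = q⁻¹ * (x * q⁻¹)⁻¹ * q * (q * q)⁻¹ by group]
          exact S.mul_mem (hn' _ (S.inv_mem hx)) (S.inv_mem hq) }
  have hle : Subgroup.closure (insert q (S : Set X)) ≤ T := by
    refine (Subgroup.closure_le _).2 (Set.insert_subset ?_ fun s hs => Or.inl hs)
    exact Or.inr (by rw [mul_inv_cancel]; exact one_mem _)
  refine (Subgroup.card_le_of_le hle).trans ?_
  have := Nat.card_le_card_of_injective (fun x : T =>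
    if hx : (x : X) ∈ S then ((⟨x, hx⟩ : S), false) else (⟨x * q⁻¹, x.2.resolve_left hx⟩, true))
    (fun x y e => by
      simp only at e
      split_ifs at e with h1 h2 h2 <;>
        simp only [Prod.mk.injEq, Subtype.mk.injEq, and_true, mul_left_inj, Bool.false_eq_true, Bool.true_eq_false, and_false] at e
      all_goals exact Subtype.ext e)
  rw [Nat.card_prod, Nat.card_eq_fintype_card (α := Bool), Fintype.card_bool, mul_comm] at this
  exact this

/-- the word of a vector of the symplectic basis -/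
def qW (i : Fin 8) : List Fi22.Gen := (symSel.getD i []).flatMap fun j => baseW.getD j []

/-- the symplectic basis -/
noncomputable def qv (i : Fin 8) : Cfsg.Spor.Fi22 := val (qW i)

theorem q_rel_ok : ((List.finRange 8).all fun i =>
    okBase (qW i ++ qW i) [] && (List.finRange 8).all fun j =>
      okBase (qW i ++ qW j) (qW j ++ qW i ++ (if j = CfsgLib.ThCent.mate i then [.a, .g] else []))) = true := by
  decide +kernel

theorem qv_mem (i : Fin 8) : qv i ∈ labKer := by
  have hb : ∀ j, val (baseW.getD j []) ∈ labKer := by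
    intro j
    rcases lt_or_ge j 8 with h | h
    · refine mem_labKer_of_ok ?_
      interval_cases j
      exacts [base_ok0, base_ok1, base_ok2, base_ok3, base_ok4, base_ok5, base_ok6, base_ok7]
    · rw [List.getD_eq_default _ _ (show baseW.length ≤ j from h)]
      exact one_mem _
  rw [qv, qW]
  induction symSel.getD i [] with
  | nil => exact one_mem _
  | cons j l ih =>
    rw [List.flatMap_cons]
    show ((baseW.getD j [] ++ _).map gen).prod ∈ labKer
    rw [List.map_append, List.prod_append]
    exact mul_mem (hb j) ih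

theorem qv_sq (i : Fin 8) : qv i * qv i = 1 := by
  have h := List.all_eq_true.1 q_rel_ok i (List.mem_finRange i)
  rw [Bool.and_eq_true] at h
  simpa [qv, val] using eq_of_okBase h.1

theorem qv_comm (i j : Fin 8) :
    qv i * qv j = qv j * qv i * (if j = CfsgLib.ThCent.mate i then ga * gg else 1) := by
  have h := List.all_eq_true.1 q_rel_ok i (List.mem_finRange i)
  rw [Bool.and_eq_true] at h
  have h' := eq_of_okBase (List.all_eq_true.1 h.2 j (List.mem_finRange j))
  split_ifs at h' ⊢ <;> simpa [qv, val, ga, gg, mul_assoc] using h'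

theorem qv_z (i : Fin 8) : ga * gg * qv i = qv i * (ga * gg) :=
  (Subgroup.mem_centralizer_singleton_iff.1 (pairCent_le (qv_mem i).1)).symm

theorem z_sq : ga * gg * (ga * gg) = 1 := by
  have hg2 : gg * gg = 1 := gen_sq _
  calc ga * gg * (ga * gg) = ga * (gg * ga) * gg := by group
    _ = (ga * ga) * (gg * gg) := by rw [← comm_ag.eq]; group
    _ = 1 := by rw [ga_sq, hg2, mul_one]

theorem z_ne : ga * gg ≠ 1 := fun h => ne_ag
  ((eq_inv_of_mul_eq_one_left h).trans (inv_eq_of_mul_eq_one_left (gen_sq _ : gg * gg = 1)))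

/-- the extraspecial subgroup -/
noncomputable def extraSub : Subgroup Cfsg.Spor.Fi22 := Subgroup.closure (Set.range qv)

theorem z_mem : ga * gg ∈ extraSub := by
  have e := qv_comm 0 1
  rw [if_pos (by decide)] at e
  rw [show ga * gg = (qv 1 * qv 0)⁻¹ * (qv 0 * qv 1) by rw [e]; group]
  have h : ∀ i, qv i ∈ extraSub := fun i => Subgroup.subset_closure ⟨i, rfl⟩
  exact mul_mem (inv_mem (mul_mem (h _) (h _))) (mul_mem (h _) (h _))

/-- the chain of subgroups -/
noncomputable def chain (k : ℕ) : Subgroup Cfsg.Spor.Fi22 :=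
  Subgroup.closure (insert (ga * gg) (qv '' {i : Fin 8 | (i : ℕ) < k}))

theorem card_chain_le : ∀ k ≤ 8, Nat.card (chain k) ≤ 2 ^ (k + 1) := by
  haveI := finite
  intro k
  induction k with
  | zero =>
    intro _
    have : chain 0 = Subgroup.zpowers (ga * gg) := by
      rw [chain, show {i : Fin 8 | (i : ℕ) < 0} = ∅ from Set.ext fun i => by simp, Set.image_empty,
        insert_empty_eq, Subgroup.zpowers_eq_closure]
    rw [this, Nat.card_zpowers, orderOf_eq_prime (by rw [pow_two, z_sq]) z_ne]
    norm_num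
  | succ k ih =>
    intro hk
    let q : Fin 8 := ⟨k, by omega⟩
    have hn : ∀ s ∈ chain k, qv q * s * (qv q)⁻¹ ∈ chain k := by
      intro s hs
      induction hs using Subgroup.closure_induction with
      | mem s hs =>
        rcases hs with rfl | ⟨j, hj, rfl⟩
        · rw [← qv_z, mul_inv_cancel_right]
          exact Subgroup.subset_closure (Set.mem_insert _ _)
        · rw [qv_comm q j]
          have hj' : qv j ∈ chain k := Subgroup.subset_closure (Set.mem_insert_of_mem _ ⟨j, hj, rfl⟩)
          split_ifs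
          · rw [show qv j * qv q * (ga * gg) * (qv q)⁻¹ = qv j * (qv q * (ga * gg) * (qv q)⁻¹) by group,
              ← qv_z, mul_inv_cancel_right]
            exact mul_mem hj' (Subgroup.subset_closure (Set.mem_insert _ _))
          · rw [mul_one, mul_inv_cancel_right]; exact hj'
      | one => rw [mul_one, mul_inv_cancel]; exact one_mem _
      | mul x y _ _ hx hy =>
        rw [show qv q * (x * y) * (qv q)⁻¹ = qv q * x * (qv q)⁻¹ * (qv q * y * (qv q)⁻¹) by group]
        exact mul_mem hx hy
      | inv x _ hx =>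
        rw [show qv q * x⁻¹ * (qv q)⁻¹ = (qv q * x * (qv q)⁻¹)⁻¹ by group]
        exact inv_mem hx
    have hle : chain (k + 1) ≤ Subgroup.closure (insert (qv q) (chain k : Set _)) := by
      refine (Subgroup.closure_le _).2 (Set.insert_subset ?_ ?_)
      · exact Subgroup.subset_closure (Set.mem_insert_of_mem _ (Subgroup.subset_closure (Set.mem_insert _ _)))
      · rintro _ ⟨j, hj, rfl⟩
        rcases Nat.lt_or_eq_of_le (Nat.le_of_lt_succ hj) with h | h
        · exact Subgroup.subset_closure (Set.mem_insert_of_mem _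
            (Subgroup.subset_closure (Set.mem_insert_of_mem _ ⟨j, h, rfl⟩)))
        · exact Subgroup.subset_closure (by rw [show j = q from Fin.ext h]; exact Set.mem_insert _ _)
    calc Nat.card (chain (k + 1)) ≤ _ := Subgroup.card_le_of_le hle
      _ ≤ 2 * Nat.card (chain k) := card_insert_le _ _ hn (by rw [qv_sq]; exact one_mem _)
      _ ≤ 2 * 2 ^ (k + 1) := Nat.mul_le_mul_left _ (ih (by omega))
      _ = 2 ^ (k + 1 + 1) := by rw [pow_succ (n := k + 1)]; ring

theorem extraSub_spec : Cfsg.IsExtraspecial 2 extraSub ∧ Nat.card extraSub = 2 ^ 9 := by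
  haveI := finite
  refine CfsgLib.ThCent.isExtraspecial_of_basis ⟨ga * gg, z_mem⟩ (fun i => ⟨qv i, Subgroup.subset_closure ⟨i, rfl⟩⟩)
    (Subtype.ext z_sq) (fun h => z_ne (congrArg Subtype.val h)) (fun i => Subtype.ext (qv_z i)) ?_
    (fun i => Or.inl (Subtype.ext (qv_sq i))) (fun i j => Subtype.ext ?_) ?_
  · rw [eq_top_iff]
    rintro ⟨x, hx⟩ -
    have hm : ∀ y ∈ extraSub, ∃ z ∈ Subgroup.closure (Set.range fun i =>
        (⟨qv i, Subgroup.subset_closure ⟨i, rfl⟩⟩ : extraSub)), (z : Cfsg.Spor.Fi22) = y := by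
      intro y hy
      induction hy using Subgroup.closure_induction with
      | mem y hy => obtain ⟨i, rfl⟩ := hy; exact ⟨_, Subgroup.subset_closure ⟨i, rfl⟩, rfl⟩
      | one => exact ⟨1, one_mem _, rfl⟩
      | mul a b _ _ ha hb =>
        obtain ⟨z, hz, rfl⟩ := ha
        obtain ⟨z', hz', rfl⟩ := hb
        exact ⟨z * z', mul_mem hz hz', rfl⟩
      | inv a _ ha => obtain ⟨z, hz, rfl⟩ := ha; exact ⟨z⁻¹, inv_mem hz, rfl⟩
    obtain ⟨z, hz, hzx⟩ := hm x hx
    rwa [show z = ⟨x, hx⟩ from Subtype.ext hzx] at hz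
  · have h := qv_comm i j
    show qv i * qv j = _
    rw [h]
    split_ifs <;> rfl
  · refine le_trans (Subgroup.card_le_of_le ?_) (card_chain_le 8 le_rfl)
    exact Subgroup.closure_mono (fun x ⟨i, hi⟩ => Set.mem_insert_of_mem _ ⟨i, i.2, hi⟩)

theorem ga_comm_extra {x : Cfsg.Spor.Fi22} (hx : x ∈ extraSub) : x * ga = ga * x := by
  have h : extraSub ≤ Subgroup.centralizer {ga} :=
    (Subgroup.closure_le _).2 (by rintro _ ⟨i, rfl⟩; exact (Subgroup.mem_inf.1 (qv_mem i).1).1)
  exact Subgroup.mem_centralizer_singleton_iff.1 (h hx)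

theorem ga_not_mem : ga ∉ extraSub := by
  intro h
  obtain ⟨⟨-, hcard⟩, -⟩ := extraSub_spec
  haveI := finite
  have hg : (⟨ga, h⟩ : extraSub) ∈ Subgroup.center extraSub :=
    Subgroup.mem_center_iff.2 fun x => Subtype.ext (ga_comm_extra x.2)
  have hz : (⟨ga * gg, z_mem⟩ : extraSub) ∈ Subgroup.center extraSub := by
    refine Subgroup.mem_center_iff.2 fun x => Subtype.ext ?_
    have h : extraSub ≤ Subgroup.centralizer {ga * gg} :=
      (Subgroup.closure_le _).2 (by rintro _ ⟨i, rfl⟩; exact Subgroup.mem_centralizer_singleton_iff.2 (qv_z i).symm)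
    exact Subgroup.mem_centralizer_singleton_iff.1 (h x.2)
  have hle : Subgroup.zpowers (⟨ga * gg, z_mem⟩ : extraSub) = Subgroup.center extraSub := by
    refine Subgroup.eq_of_le_of_card_ge (Subgroup.zpowers_le.2 hz) ?_
    rw [hcard, Nat.card_zpowers, Subgroup.orderOf_mk, orderOf_eq_prime (by rw [pow_two, z_sq]) z_ne]
  rw [← hle, Subgroup.mem_zpowers_iff] at hg
  obtain ⟨n, hn⟩ := hg
  have hn' : (ga * gg) ^ n = ga := congrArg Subtype.val hn
  rcases Int.even_or_odd n with ⟨m, rfl⟩ | ⟨m, rfl⟩
  · rw [← two_mul, zpow_mul, zpow_two, z_sq, one_zpow] at hn'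
    exact ga_ne_one hn'.symm
  · rw [zpow_add, zpow_mul, zpow_two, z_sq, one_zpow, one_mul, zpow_one] at hn'
    exact ne_ag (by
      have : gg = 1 := mul_left_cancel (hn'.trans (mul_one ga).symm)
      have hd := Transp.orderOf_mem gg_mem
      rw [this, orderOf_one] at hd
      exact absurd hd (by norm_num))

/-- the product map -/
noncomputable def twoProd : Subgroup.zpowers ga × extraSub →* Cfsg.Spor.Fi22 :=
  MonoidHom.noncommCoprod (Subgroup.zpowers ga).subtype extraSub.subtype fun a x => by
    obtain ⟨n, hn⟩ := Subgroup.mem_zpowers_iff.1 a.2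
    show Commute (a : Cfsg.Spor.Fi22) x
    rw [← hn]
    exact Commute.zpow_left (ga_comm_extra x.2).symm n

/-- the normal 2-subgroup -/
noncomputable def fitSub : Subgroup Cfsg.Spor.Fi22 := twoProd.range

theorem twoProd_injective : Function.Injective twoProd := by
  refine (injective_iff_map_eq_one _).2 ?_
  rintro ⟨⟨a, ha⟩, ⟨x, hx⟩⟩ e
  have e' : a * x = 1 := e
  obtain ⟨n, rfl⟩ := Subgroup.mem_zpowers_iff.1 ha
  rcases Int.even_or_odd n with ⟨m, rfl⟩ | ⟨m, rfl⟩
  · rw [← two_mul, zpow_mul, zpow_two, ga_sq, one_zpow, one_mul] at e'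
    refine Prod.ext (Subtype.ext ?_) (Subtype.ext e')
    show ga ^ (m + m) = 1
    rw [← two_mul, zpow_mul, zpow_two, ga_sq, one_zpow]
  · rw [zpow_add, zpow_mul, zpow_two, ga_sq, one_zpow, one_mul, zpow_one] at e'
    exfalso
    refine ga_not_mem ?_
    rw [eq_inv_of_mul_eq_one_left e']
    exact inv_mem hx

theorem card_fitSub : Nat.card fitSub = 2 ^ 10 := by
  rw [fitSub, ← Nat.card_congr (MonoidHom.ofInjective twoProd_injective).toEquiv, Nat.card_prod,
    extraSub_spec.2, Nat.card_zpowers, orderOf_ga]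
  norm_num

theorem fitSub_equiv : Nonempty (fitSub ≃* Multiplicative (ZMod 2) × extraSub) :=
  ⟨(MonoidHom.ofInjective twoProd_injective).symm.trans ((zmodCyclicMulEquiv (G := Subgroup.zpowers ga) inferInstance).symm.trans
    ((ZMod.ringEquivCongr (by rw [Nat.card_zpowers, orderOf_ga])).toAddEquiv.toMultiplicative) |>.prodCongr (MulEquiv.refl _))⟩

theorem fitSub_le : fitSub ≤ labKer := by
  rintro _ ⟨⟨⟨a, ha⟩, ⟨x, hx⟩⟩, rfl⟩
  refine mul_mem ?_ ((Subgroup.closure_le _).2 (by rintro _ ⟨i, rfl⟩; exact qv_mem i) hx)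
  refine Subgroup.zpowers_le.2 ?_ ha
  simpa [val, ga] using mem_labKer_of_ok ag_ok.1

end CfsgLib.Spor.Fi22.TwoCent
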