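import Cfsg.Agent.Lib.Spor.Fi22.TwoCent.Extra
import Cfsg.Agent.Lib.Components.FStar
import Cfsg.Agent.Lib.Base.Cores

/-!
The generalized Fitting subgroup of the centraliser of a product of two commuting transpositions in
the presented Fischer group.
-/

set_option autoImplicit false
set_option maxRecDepth 100000

namespace CfsgLib.Spor.Fi22.TwoCent

open CfsgLib.PresCert Cfsg.Spor CfsgLib.Spor.Fi22 CfsgLib.Spor.Fi22.Transp
open CfsgLib.Classical.ESix CfsgLib.Geometry CfsgLib.Base

theorem count_arith {c k l r g : ℕ} (hk : k = 2 ^ 10) (hkl : k ≤ l) (hlr : l ≤ r) (hg : g = r * 51840)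
    (hgc : g ≤ c) (hc : c ≤ 2 ^ 10 * 51840) : c ≤ g ∧ l ≤ k := by
  subst hk hg
  have h1 : r * 51840 ≤ 2 ^ 10 * 51840 := hgc.trans hc
  have h2 : r ≤ 2 ^ 10 := Nat.le_of_mul_le_mul_right h1 (by norm_num)
  exact ⟨hc.trans (Nat.mul_le_mul_right _ (hkl.trans hlr)), hlr.trans h2⟩

theorem graph_total : graph.map (MonoidHom.fst _ _) = ⊤ ∧
    ∀ x : prodCent, (∀ p, lab (π (x : Cfsg.Spor.Fi22) p) = lab p) → (x : Cfsg.Spor.Fi22) ∈ fitSub := by
  haveI := finite
  haveI : Finite (orth Q2) := finite_orth_two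
  set K : Subgroup prodCent := fitSub.subgroupOf prodCent with hK
  have hKc : Nat.card K = 2 ^ 10 := by
    rw [hK, Nat.card_congr (Subgroup.subgroupOfEquivOfLe
      (fitSub_le.trans (le_trans (fun x hx => hx.1) pairCent_le))).toEquiv, card_fitSub]
  let L : Subgroup prodCent :=
    { carrier := {x | ∀ p, lab (π (x : Cfsg.Spor.Fi22) p) = lab p}
      one_mem' := fun p => by simp
      mul_mem' := fun {x y} hx hy p => by
        show lab (π ((x : Cfsg.Spor.Fi22) * y) p) = lab p
        rw [map_mul, Equiv.Perm.mul_apply, hx, hy]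
      inv_mem' := fun {x} hx p => by
        have h := hx ((π (x : Cfsg.Spor.Fi22))⁻¹ p)
        rw [← Equiv.Perm.mul_apply, mul_inv_cancel, Equiv.Perm.one_apply] at h
        show lab (π ((x : Cfsg.Spor.Fi22)⁻¹) p) = lab p
        rw [map_inv, h] }
  have hKL : K ≤ L := fun x hx p => (fitSub_le hx).2 p
  let f : graph →* orth Q2 := (MonoidHom.snd _ _).comp graph.subtype
  let i : L → f.ker := fun x => ⟨⟨((x : prodCent), 1), mem_graph.2 fun p => x.2 p⟩, rfl⟩
  have hi : Function.Injective i := fun x y e =>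
    Subtype.ext (congrArg (fun z : f.ker => (z : prodCent × orth Q2).1) e)
  have hfs : f.range = ⊤ := by
    rw [MonoidHom.range_comp, Subgroup.range_subtype]; exact snd_surj
  have hgr : Nat.card graph = Nat.card f.ker * 51840 := by
    rw [← f.ker.card_mul_index, Subgroup.index_ker, hfs, Subgroup.card_top, card_orth_two]
  have hP : Nat.card (graph.map (MonoidHom.fst prodCent (orth Q2))) = Nat.card graph := by
    refine (Nat.card_congr (Equiv.ofBijective
      (fun x : graph => (⟨(x : prodCent × orth Q2).1, x, x.2, rfl⟩ : graph.map (MonoidHom.fst prodCent (orth Q2)))) ⟨?_, ?_⟩)).symm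
    · rintro ⟨⟨x, A⟩, hx⟩ ⟨⟨y, B⟩, hy⟩ e
      have e' : x = y := congrArg Subtype.val e
      subst e'
      exact Subtype.ext (Prod.ext rfl (graph_unique hx hy))
    · rintro ⟨x, ⟨z, hz, rfl⟩⟩
      exact ⟨⟨z, hz⟩, rfl⟩
  have h1 := Subgroup.card_le_card_group (graph.map (MonoidHom.fst prodCent (orth Q2)))
  have h2 := card_prodCent_le
  have h3 := Nat.card_le_card_of_injective i hi
  have h4 := Subgroup.card_le_of_le hKL
  obtain ⟨h5, h6⟩ := count_arith hKc h4 h3 hgr (hP ▸ h1) h2
  refine ⟨Subgroup.eq_top_of_card_eq _ (le_antisymm h1 ?_), fun x hx => ?_⟩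
  · rw [hP]; exact h5
  · have e : K = L := Subgroup.eq_of_le_of_card_ge hKL h6
    have hxL : x ∈ L := hx
    rw [← e] at hxL
    exact hxL

theorem exists_image (x : prodCent) : ∃ A, (x, A) ∈ graph := by
  have h : x ∈ graph.map (MonoidHom.fst _ _) := graph_total.1 ▸ Subgroup.mem_top x
  obtain ⟨⟨y, A⟩, hy, rfl⟩ := h
  exact ⟨A, hy⟩

/-- the action on the labels -/
noncomputable def act : prodCent →* orth Q2 :=
  MonoidHom.mk' (fun x => (exists_image x).choose) fun x y =>
    graph_unique (exists_image (x * y)).choose_spec (mem_graph.2 fun p => by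
      show lab (π ((x : Cfsg.Spor.Fi22) * y) p) = (exists_image x).choose.1 ((exists_image y).choose.1 (lab p))
      rw [map_mul, Equiv.Perm.mul_apply, mem_graph.1 (exists_image x).choose_spec,
        mem_graph.1 (exists_image y).choose_spec])

theorem act_spec (x : prodCent) (p : Fin Perm.data.n) :
    lab (π (x : Cfsg.Spor.Fi22) p) = (act x).1 (lab p) :=
  mem_graph.1 (exists_image x).choose_spec p

theorem act_eq {x : prodCent} {A : orth Q2} (h : (x, A) ∈ graph) : act x = A :=
  graph_unique (exists_image x).choose_spec h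

theorem act_surjective : Function.Surjective act := by
  intro A
  have hA : A ∈ graph.map (MonoidHom.snd prodCent (orth Q2)) := by rw [snd_surj]; exact Subgroup.mem_top A
  obtain ⟨⟨x, B⟩, hx, e⟩ := hA
  exact ⟨x, (act_eq hx).trans e⟩

theorem act_ker : act.ker = fitSub.subgroupOf prodCent := by
  ext x
  rw [MonoidHom.mem_ker, Subgroup.mem_subgroupOf]
  constructor
  · intro h
    exact graph_total.2 x fun p => by rw [act_spec, h]; rfl
  · intro h
    exact act_eq (mem_graph.2 fun p => (fitSub_le h).2 p)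

theorem centralizer_le : Subgroup.centralizer (act.ker : Set prodCent) ≤ act.ker := by
  set M := Subgroup.centralizer (act.ker : Set prodCent) with hM
  intro x hx
  by_contra hx1
  haveI : (M.map act).Normal := Subgroup.Normal.map inferInstance act act_surjective
  obtain ⟨n, hn, hb⟩ := exists_move (M.map act) (Subgroup.mem_map_of_mem act hx) hx1
  obtain ⟨y, hy, rfl⟩ := hn
  obtain ⟨h1, h2, h3, h4⟩ := fix_ok
  have hw : val fixW ∈ labKer := mem_labKer_of_ok base_ok1
  have hwK : (⟨val fixW, pairCent_le hw.1⟩ : prodCent) ∈ act.ker :=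
    act_eq (mem_graph.2 fun p => hw.2 p)
  have hc : (y : Cfsg.Spor.Fi22) * val fixW = val fixW * y :=
    (congrArg Subtype.val (Subgroup.mem_centralizer_iff.1 hy _ hwK)).symm
  let p : Fin Perm.data.n := ⟨fixPt, h3⟩
  have hp : π (val fixW) p = p := Fin.ext ((π_val fixW p).trans h2)
  have hq : π (val fixW) (π (y : Cfsg.Spor.Fi22) p) = π (y : Cfsg.Spor.Fi22) p := by
    rw [← Equiv.Perm.mul_apply, ← map_mul, ← hc, map_mul, Equiv.Perm.mul_apply, hp]
  have hl : lab p = (ent i0).1 := by rw [ent_i0, lab]; exact congrArg vecN h4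
  have hl' : lab (π (y : Cfsg.Spor.Fi22) p) = (act y).1 (ent i0).1 := by rw [act_spec, hl]
  rw [← hl'] at hb
  obtain ⟨q, hq'⟩ : ∃ q, q = π (y : Cfsg.Spor.Fi22) p := ⟨_, rfl⟩
  rw [← hq'] at hb hq
  have hm := allBelow_spec h1 q q.2
  rw [← π_val, hq] at hm
  simp only [Bool.or_eq_true, Bool.not_eq_true', Nat.beq_eq] at hm
  rcases hm with (hm | hm) | hm
  · rw [Nat.beq_refl] at hm
    exact Bool.noConfusion hm
  · rw [lab, hm] at hb
    exact absurd hb (by decide +kernel)
  · rw [ent_i0, lab] at hb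
    have := mask_perp ⟨labN q, labN_lt q⟩ hm
    rw [this] at hb
    exact zero_ne_one hb

theorem isPGroup_ker : IsPGroup 2 act.ker := by
  haveI := finite
  refine IsPGroup.of_card (n := 10) ?_
  rw [act_ker, Nat.card_congr (Subgroup.subgroupOfEquivOfLe
    (fitSub_le.trans (le_trans (fun x hx => hx.1) pairCent_le))).toEquiv, card_fitSub]

theorem fstar_eq : Cfsg.generalizedFittingSubgroup prodCent = act.ker := by
  haveI := finite
  haveI : Fact (Nat.Prime 2) := ⟨Nat.prime_two⟩
  have hF : Cfsg.fittingSubgroup prodCent ≤ act.ker := by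
    rw [fittingSubgroup_eq_iSup_pCore]
    refine iSup_le fun q => ?_
    haveI := Fact.mk q.2
    haveI : (Cfsg.pCore (q : ℕ) prodCent).Normal := inferInstance
    rcases eq_or_ne (q : ℕ) 2 with h | h
    · rw [h]
      haveI : ((Cfsg.pCore 2 prodCent).map act).Normal := Subgroup.Normal.map inferInstance act act_surjective
      have := normal_two_trivial _ ((isPGroup_pCore 2 prodCent).map act)
      rwa [Subgroup.map_eq_bot_iff] at this
    · have hd : Disjoint (Cfsg.pCore (q : ℕ) prodCent) act.ker :=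
        IsPGroup.disjoint_of_ne _ 2 h _ _ (isPGroup_pCore _ _) isPGroup_ker
      intro x hx
      refine centralizer_le (Subgroup.mem_centralizer_iff.2 fun y hy => ?_)
      exact (Subgroup.commute_of_normal_of_disjoint _ _ inferInstance inferInstance hd x y hx hy).eq.symm
  refine le_antisymm (CfsgLib.Components.fstar_le_of_fitting_le act.normal_ker.isSubnormal hF centralizer_le) ?_
  exact le_trans (le_fittingSubgroup isPGroup_ker.isNilpotent) CfsgLib.Components.fitting_le_fstar

/-- The structure of the centraliser of the product of two commuting transpositions. -/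
theorem prodCent_spec [hn : (Cfsg.generalizedFittingSubgroup prodCent).Normal] :
    (∃ (E : Type) (_ : Group E) (_ : Finite E), Cfsg.IsExtraspecial 2 E ∧ Nat.card E = 2 ^ 9 ∧
      Nonempty (↥(Cfsg.generalizedFittingSubgroup prodCent) ≃* Multiplicative (ZMod 2) × E)) ∧
    Nonempty (prodCent ⧸ Cfsg.generalizedFittingSubgroup prodCent ≃*
      Cfsg.isometryGroup (ZMod 2) (Cfsg.quadFormMinus 2 (ZMod 2) 1 1)) := by
  haveI := finite
  obtain ⟨e⟩ := fitSub_equiv
  refine ⟨⟨extraSub, inferInstance, inferInstance, extraSub_spec.1, extraSub_spec.2, ?_⟩, ?_⟩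
  · exact ⟨(MulEquiv.subgroupCongr (fstar_eq.trans act_ker)).trans
      ((Subgroup.subgroupOfEquivOfLe (fitSub_le.trans (le_trans (fun x hx => hx.1) pairCent_le))).trans e)⟩
  · refine ⟨(QuotientGroup.quotientMulEquivOfEq fstar_eq).trans
      ((QuotientGroup.quotientKerEquivOfSurjective act act_surjective).trans ?_)⟩
    have h : (⇑Q2 : V2 → ZMod 2) = Cfsg.quadFormMinus 2 (ZMod 2) 1 1 := funext Q2_apply
    rw [← h]
    exact (isomEquiv Q2).symm

/-- The same in a group isomorphic to the presented one. -/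
theorem prodCent_of_iso {G : Type*} [Group G] [Finite G] {D : Set G} (e : G ≃* Cfsg.Spor.Fi22)
    (he : e '' D = conjugatesOf ga) {d₁ d₂ : G} (h₁ : d₁ ∈ D) (h₂ : d₂ ∈ D) (hne : d₁ ≠ d₂)
    (hc : Commute d₁ d₂) (C : Subgroup G) (hC : C = Subgroup.centralizer ({d₁ * d₂} : Set G))
    [hn : (Cfsg.generalizedFittingSubgroup ↥C).Normal] :
    (∃ (E : Type) (_ : Group E) (_ : Finite E), Cfsg.IsExtraspecial 2 E ∧ Nat.card E = 2 ^ 9 ∧
      Nonempty (↥(Cfsg.generalizedFittingSubgroup ↥C) ≃* Multiplicative (ZMod 2) × E)) ∧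
    Nonempty (↥C ⧸ Cfsg.generalizedFittingSubgroup ↥C ≃*
      Cfsg.isometryGroup (ZMod 2) (Cfsg.quadFormMinus 2 (ZMod 2) 1 1)) := by
  haveI := finite
  obtain ⟨g, hg1, hg2⟩ := pair_conj (d₁ := e d₁) (d₂ := e d₂) (he ▸ ⟨d₁, h₁, rfl⟩) (he ▸ ⟨d₂, h₂, rfl⟩)
    (fun h => hne (e.injective h)) (hc.map e)
  let e' : G ≃* Cfsg.Spor.Fi22 := e.trans (MulAut.conj g)
  have hz : e' (d₁ * d₂) = ga * gg := by
    rw [map_mul, show e' d₁ = ga from hg1, show e' d₂ = gg from hg2]
  have hmap : C.map e'.toMonoidHom = prodCent := by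
    rw [hC]
    ext y
    rw [Subgroup.mem_map]
    constructor
    · rintro ⟨x, hx, rfl⟩
      refine Subgroup.mem_centralizer_singleton_iff.2 ?_
      rw [← hz]
      show e' x * e' _ = e' _ * e' x
      rw [← map_mul, ← map_mul, Subgroup.mem_centralizer_singleton_iff.1 hx]
    · intro hy
      refine ⟨e'.symm y, Subgroup.mem_centralizer_singleton_iff.2 (e'.injective ?_), e'.apply_symm_apply y⟩
      rw [map_mul, map_mul e' _ (e'.symm y), e'.apply_symm_apply, hz]
      exact Subgroup.mem_centralizer_singleton_iff.1 hy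
  let ψ : C ≃* prodCent := (e'.subgroupMap C).trans (MulEquiv.subgroupCongr hmap)
  haveI : (Cfsg.generalizedFittingSubgroup prodCent).Normal := inferInstance
  obtain ⟨⟨E, i1, i2, hE, hcard, ⟨f⟩⟩, ⟨r⟩⟩ := prodCent_spec
  have hf := CfsgLib.Components.fstar_map_equiv ψ
  exact ⟨⟨E, i1, i2, hE, hcard, ⟨((ψ.subgroupMap _).trans (MulEquiv.subgroupCongr hf)).trans f⟩⟩,
    ⟨(QuotientGroup.congr _ _ ψ hf).trans r⟩⟩

end CfsgLib.Spor.Fi22.TwoCent
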